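import Cfsg.Agent.FischerThm.Sym.Main

/-!
# The members as transpositions of two more points

`d` becomes the transposition of the two new points, a partner keeps its pair, and the members not
commuting with `d` become the transpositions of an old and a new point.
-/

set_option autoImplicit false

open Cfsg
open Cfsg.Agent.ThreeTrans (dperp mul_self mul_self_mul mul_mul_self commute_conj braid)

namespace Cfsg.Agent.FischerThm

namespace SymCase

variable {G : Type*} [Group G] [Finite G] {D : Set G} {d : G} {m : ℕ}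
  {φ : G → Equiv.Perm (Fin m)}

theorem exists_equiv (S : Step D d) (C : Chart D d (swaps (Fin m)) φ) (hm : 5 ≤ m) (hm6 : m ≠ 6) :
    SymAt D (m + 2) := by
  classical
  have hT := S.set
  have hG := S.group
  obtain ⟨c₀, hc₀D, hc₀⟩ := S.exists_not_commute S.mem
  have hc₀a : c₀ ∈ aside D d := ⟨hc₀D, hc₀⟩
  obtain ⟨o, ho⟩ := exists_label S C hm hm6 hc₀a
  have hrep : ∀ i, i ≠ o → ∃ b ∈ dperp D d, φ b = Equiv.swap o i := fun i hi => by
    obtain ⟨b, hb, he⟩ := C.exists_eq (swap_mem (Ne.symm hi))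
    exact ⟨b, hb, he⟩
  choose! rep hrep₁ hrep₂ using hrep
  let A : Fin m → G := fun i => if i = o then c₀ else rep i * c₀ * rep i
  have hAo : A o = c₀ := if_pos rfl
  have hAi : ∀ i, i ≠ o → A i = rep i * c₀ * rep i := fun i hi => if_neg hi
  have hAmem : ∀ i, A i ∈ aside D d := fun i => by
    by_cases hi : i = o
    · rw [hi, hAo]; exact hc₀a
    · rw [hAi i hi]; exact conj_mem_aside hG (hrep₁ i hi) hc₀a
  have hAlab : ∀ i, φ '' common D d (A i) = swapsIn (Finset.univ.erase i) := fun i => by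
    by_cases hi : i = o
    · rw [hi, hAo]; exact ho
    · rw [hAi i hi, label_conj S C (hrep₁ i hi) ho, hrep₂ i hi, Equiv.swap_apply_left]
  -- the action of the partners
  have hcomm : ∀ b ∈ dperp D d, ∀ i, φ b i = i → Commute b (A i) := by
    intro b hb i hfix
    obtain ⟨u, v, huv, he⟩ := C.mem hb
    have hmem : φ b ∈ φ '' common D d (A i) := by
      rw [hAlab i]
      refine ⟨u, v, ?_, ?_, huv, he⟩
      · rw [he] at hfix
        refine Finset.mem_erase.2 ⟨?_, Finset.mem_univ _⟩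
        rintro rfl
        rw [Equiv.swap_apply_left] at hfix
        exact huv hfix.symm
      · rw [he] at hfix
        refine Finset.mem_erase.2 ⟨?_, Finset.mem_univ _⟩
        rintro rfl
        rw [Equiv.swap_apply_right] at hfix
        exact huv hfix
    obtain ⟨z, hz, hze⟩ := hmem
    rw [← C.inj hz.1 hb hze]
    exact hz.2.2.2.symm
  have hback : ∀ b ∈ dperp D d, ∀ z, b * (b * z * b) * b = z := fun b hb z => by
    simp only [mul_assoc, mul_self hT hb.1, mul_one, mul_self_mul hT hb.1]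
  have hact : ∀ b ∈ dperp D d, ∀ i, b * A i * b = A (φ b i) := by
    intro b hb i
    by_cases hfix : φ b i = i
    · rw [hfix, ThreeTrans.conj_self_of_commute hT hb.1 (hcomm b hb i hfix)]
    obtain ⟨u, v, huv, he⟩ := C.mem hb
    -- it is enough to treat `swap i j`
    obtain ⟨j, hij, hbe⟩ : ∃ j, i ≠ j ∧ φ b = Equiv.swap i j := by
      rw [he] at hfix ⊢
      rcases eq_or_ne i u with rfl | hu
      · exact ⟨v, huv, rfl⟩
      rcases eq_or_ne i v with rfl | hv
      · exact ⟨u, Ne.symm huv, Equiv.swap_comm _ _⟩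
      exact absurd (Equiv.swap_apply_of_ne_of_ne hu hv) hfix
    rw [hbe, Equiv.swap_apply_left]
    rcases eq_or_ne i o with rfl | hio
    · rw [C.inj hb (hrep₁ j (Ne.symm hij)) (hbe.trans (hrep₂ j (Ne.symm hij)).symm), hAo,
        hAi j (Ne.symm hij)]
    rcases eq_or_ne j o with rfl | hjo
    · rw [C.inj hb (hrep₁ i hio) (hbe.trans ((Equiv.swap_comm _ _).trans (hrep₂ i hio).symm)), hAi i hio,
        hback _ (hrep₁ i hio), hAo]
    have hbi := hrep₁ i hio
    have hbj := hrep₁ j hjo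
    have hprod : b = rep j * rep i * rep j := by
      refine C.inj hb (dperp_closed hG d _ hbj _ hbi) ?_
      rw [C.conj _ hbj _ hbi, hrep₂ j hjo, hrep₂ i hio, swap_conj_swap, hbe, Equiv.swap_apply_left,
        Equiv.swap_apply_of_ne_of_ne hio hij]
      exact Equiv.swap_comm _ _
    have hnc : ¬ Commute (rep j) (rep i) := fun h => by
      have h' := (C.comm _ hbj _ hbi).2 h
      rw [hrep₂ j hjo, hrep₂ i hio,
        commute_swap_iff (Ne.symm hjo) (Ne.symm hio)
          (fun he => by rcases swap_eq_swap (Ne.symm hjo) he with h | h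
                        exacts [hij h.2.symm, hio h.1.symm])] at h'
      exact h'.1 rfl
    have hstep : b * A i * b = rep i * A j * rep i := by
      rw [hprod, hAi i hio, hAi j hjo]
      have hbr := braid hT hbj.1 hbi.1 hnc
      calc rep j * rep i * rep j * (rep i * c₀ * rep i) * (rep j * rep i * rep j)
          = (rep j * rep i * rep j) * rep i * c₀ * (rep i * (rep j * rep i * rep j)) := by
            simp only [mul_assoc]
        _ = (rep i * rep j * rep i) * rep i * c₀ * (rep i * (rep i * rep j * rep i)) := by rw [hbr]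
        _ = rep i * (rep j * c₀ * rep j) * rep i := by
            simp only [mul_assoc, mul_self_mul hT hbi.1]
    rw [hstep, ThreeTrans.conj_self_of_commute hT hbi.1]
    exact hcomm _ hbi j (by rw [hrep₂ i hio, Equiv.swap_apply_of_ne_of_ne hjo (Ne.symm hij)])
  have hAinj : ∀ i j, A i = A j → i = j := fun i j h => label_unique hm (by
    rw [← hAlab i, ← hAlab j, h])
  let B : Fin m → G := fun i => d * A i * d
  have hBmem : ∀ i, B i ∈ aside D d := fun i => flip_mem_aside hG S.mem (hAmem i)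
  have hflip : ∀ z, d * (d * z * d) * d = z := fun z => by
    simp only [mul_assoc, mul_self hT S.mem, mul_one, mul_self_mul hT S.mem]
  have hAB : ∀ i j, A i ≠ B j := by
    intro i j h
    have hlab : φ '' common D d (B j) = swapsIn (Finset.univ.erase j) := by
      show φ '' common D d (d * A j * d) = _
      rw [common_flip hG S.mem (hAmem j), hAlab j]
    have hij : i = j := label_unique hm (by rw [← hAlab i, ← hlab, h])
    subst hij
    refine (hAmem i).2 ?_
    show d * A i = A i * d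
    conv_lhs => rw [h]
    show d * (d * A i * d) = _
    rw [mul_assoc d (A i), mul_self_mul hT S.mem]
  have hall : ∀ z ∈ aside D d, ∃ i, z = A i ∨ z = B i := by
    have hsub : Set.range A ∪ Set.range B ⊆ aside D d := by
      rintro z (⟨i, rfl⟩ | ⟨i, rfl⟩)
      exacts [hAmem i, hBmem i]
    have hcard : (Set.range A ∪ Set.range B).ncard = 2 * m := by
      rw [Set.ncard_union_eq (Set.disjoint_left.2 ?_), Set.ncard_range_of_injective hAinj,
        Set.ncard_range_of_injective (fun i j h => hAinj i j (mul_left_cancel (mul_right_cancel h))),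
        Nat.card_eq_fintype_card, Fintype.card_fin]
      · omega
      · rintro z ⟨i, rfl⟩ ⟨j, hj⟩
        exact hAB i j hj.symm
    have heq := Set.eq_of_subset_of_ncard_le hsub (by rw [hcard, ncard_aside S C hm hm6])
      (Set.toFinite _)
    intro z hz
    rw [← heq] at hz
    rcases hz with ⟨i, rfl⟩ | ⟨i, rfl⟩
    exacts [⟨i, Or.inl rfl⟩, ⟨i, Or.inr rfl⟩]
  -- the points
  let ι : Fin m → Fin (m + 2) := Fin.castAdd 2
  have hι : Function.Injective ι := Fin.castAdd_injective _ _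
  let p₁ : Fin (m + 2) := Fin.natAdd m 0
  let p₂ : Fin (m + 2) := Fin.natAdd m 1
  have hp₁ : ∀ i, ι i ≠ p₁ := fun i h => by
    have := congrArg Fin.val h
    simp [ι, p₁] at this
    have := i.2; omega
  have hp₂ : ∀ i, ι i ≠ p₂ := fun i h => by
    have := congrArg Fin.val h
    simp [ι, p₂] at this
    have := i.2; omega
  have hp12 : p₁ ≠ p₂ := fun h => by
    have := congrArg Fin.val h
    simp [p₁, p₂] at this
  have hcover : ∀ q : Fin (m + 2), (∃ i, q = ι i) ∨ q = p₁ ∨ q = p₂ := by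
    intro q
    induction q using Fin.addCases with
    | left i => exact Or.inl ⟨i, rfl⟩
    | right i => fin_cases i
                 · exact Or.inr (Or.inl rfl)
                 · exact Or.inr (Or.inr rfl)
  have hpick : ∀ b ∈ dperp D d, ∃ uv : Fin m × Fin m, uv.1 ≠ uv.2 ∧ φ b = Equiv.swap uv.1 uv.2 :=
    fun b hb => let ⟨u, v, h, he⟩ := C.mem hb; ⟨(u, v), h, he⟩
  have : Nonempty (Fin m) := ⟨o⟩
  choose! pr hpr₁ hpr₂ using hpick
  have hidx : ∀ z ∈ aside D d, ∃ iv : Fin m × Fin (m + 2),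
      (z = A iv.1 ∧ iv.2 = p₁) ∨ (z = B iv.1 ∧ iv.2 = p₂) := fun z hz => by
    obtain ⟨i, h | h⟩ := hall z hz
    exacts [⟨(i, p₁), Or.inl ⟨h, rfl⟩⟩, ⟨(i, p₂), Or.inr ⟨h, rfl⟩⟩]
  choose! idx hidx' using hidx
  let σ : G → Equiv.Perm (Fin (m + 2)) := fun z =>
    if z = d then Equiv.swap p₁ p₂
    else if z ∈ dperp D d then Equiv.swap (ι (pr z).1) (ι (pr z).2)
    else Equiv.swap (idx z).2 (ι (idx z).1)
  have hσd : σ d = Equiv.swap p₁ p₂ := if_pos rfl
  have hσb : ∀ b ∈ dperp D d, ∀ u v, φ b = Equiv.swap u v → σ b = Equiv.swap (ι u) (ι v) := by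
    intro b hb u v he
    show (if b = d then _ else _) = _
    rw [if_neg hb.2.1, if_pos hb]
    rcases swap_eq_swap (hpr₁ b hb) ((hpr₂ b hb).symm.trans he) with ⟨h1, h2⟩ | ⟨h1, h2⟩
    · rw [h1, h2]
    · rw [h1, h2, Equiv.swap_comm]
  have hσA : ∀ i, σ (A i) = Equiv.swap p₁ (ι i) ∧ σ (B i) = Equiv.swap p₂ (ι i) := by
    have hout : ∀ z ∈ aside D d, σ z = Equiv.swap (idx z).2 (ι (idx z).1) := fun z hz => by
      show (if z = d then _ else _) = _
      rw [if_neg (fun h : z = d => hz.2 (h.symm ▸ Commute.refl d)),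
        if_neg (fun h : z ∈ dperp D d => hz.2 h.2.2)]
    intro i
    constructor
    · rw [hout _ (hAmem i)]
      rcases hidx' _ (hAmem i) with ⟨h1, h2⟩ | ⟨h1, h2⟩
      · rw [h2, hAinj _ _ h1.symm]
      · exact absurd h1 (hAB _ _)
    · rw [hout _ (hBmem i)]
      rcases hidx' _ (hBmem i) with ⟨h1, h2⟩ | ⟨h1, h2⟩
      · exact absurd h1.symm (hAB _ _)
      · rw [h2, ← hAinj _ _ (mul_left_cancel (mul_right_cancel h1) : A i = A _)]
  -- the four kinds
  have hkind : ∀ z ∈ D, z = d ∨ z ∈ dperp D d ∨ (∃ i, z = A i) ∨ ∃ i, z = B i := by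
    intro z hz
    by_cases hzd : z = d
    · exact Or.inl hzd
    by_cases hc : Commute d z
    · exact Or.inr (Or.inl ⟨hz, hzd, hc⟩)
    obtain ⟨i, h | h⟩ := hall z ⟨hz, hc⟩
    exacts [Or.inr (Or.inr (Or.inl ⟨i, h⟩)), Or.inr (Or.inr (Or.inr ⟨i, h⟩))]
  have hmaps : Set.MapsTo σ D (swaps (Fin (m + 2))) := by
    intro z hz
    rcases hkind z hz with rfl | hb | ⟨i, rfl⟩ | ⟨i, rfl⟩
    · rw [hσd]; exact swap_mem hp12
    · rw [hσb z hb _ _ (hpr₂ z hb)]; exact swap_mem (hι.ne (hpr₁ z hb))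
    · rw [(hσA i).1]; exact swap_mem (Ne.symm (hp₁ i))
    · rw [(hσA i).2]; exact swap_mem (Ne.symm (hp₂ i))
  have hsurj : Set.SurjOn σ D (swaps (Fin (m + 2))) := by
    rintro - ⟨p, q, hpq, rfl⟩
    have hA₁ : ∀ i, ∃ z ∈ D, σ z = Equiv.swap p₁ (ι i) := fun i => ⟨_, (hAmem i).1, (hσA i).1⟩
    have hB₂ : ∀ i, ∃ z ∈ D, σ z = Equiv.swap p₂ (ι i) := fun i => ⟨_, (hBmem i).1, (hσA i).2⟩
    rcases hcover p with ⟨i, rfl⟩ | rfl | rfl <;> rcases hcover q with ⟨j, rfl⟩ | rfl | rfl
    · obtain ⟨b, hb, he⟩ := C.exists_eq (swap_mem (fun h => hpq (congrArg ι h)) : Equiv.swap i j ∈ _)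
      exact ⟨b, hb.1, hσb b hb i j he⟩
    · obtain ⟨z, hz, he⟩ := hA₁ i; exact ⟨z, hz, he.trans (Equiv.swap_comm _ _)⟩
    · obtain ⟨z, hz, he⟩ := hB₂ i; exact ⟨z, hz, he.trans (Equiv.swap_comm _ _)⟩
    · exact hA₁ j
    · exact absurd rfl hpq
    · exact ⟨d, S.mem, hσd⟩
    · exact hB₂ j
    · exact ⟨d, S.mem, hσd.trans (Equiv.swap_comm _ _)⟩
    · exact absurd rfl hpq
  have hinj : Set.InjOn σ D := by
    refine Set.injOn_of_ncard_image_eq ?_ (Set.toFinite _)
    rw [(Set.Subset.antisymm (Set.image_subset_iff.2 hmaps) hsurj : σ '' D = swaps (Fin (m + 2))),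
      swaps_eq_swapsIn, ncard_swapsIn,
      Finset.card_univ, Fintype.card_fin, ncard_members S.mem, ncard_partners C,
      ncard_aside S C hm hm6, Nat.choose_succ_succ' (m + 1) 1, Nat.choose_succ_succ' m 1,
      Nat.choose_one_right, Nat.choose_one_right]
    simp only [show (1 + 1 : ℕ) = 2 from rfl]
    omega
  have hbij : Set.BijOn σ D (swaps (Fin (m + 2))) := ⟨hmaps, hinj, hsurj⟩
  -- conjugation
  have hsw : ∀ x y : Fin (m + 2), ∀ z w, z ≠ x → z ≠ y → w ≠ x → w ≠ y →
      Equiv.swap x y * Equiv.swap z w * Equiv.swap x y = Equiv.swap z w := fun x y z w h1 h2 h3 h4 => by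
    rw [swap_conj_swap, Equiv.swap_apply_of_ne_of_ne h1 h2, Equiv.swap_apply_of_ne_of_ne h3 h4]
  have hswι : ∀ u v w, Equiv.swap (ι u) (ι v) (ι w) = ι (Equiv.swap u v w) := fun u v w =>
    hι.swap_apply u v w
  have hdd : σ (d * d * d) = σ d * σ d * σ d := by
    rw [mul_self hT S.mem, one_mul, mul_self group_swaps.1 (hmaps S.mem), one_mul]
  have hdb : ∀ b ∈ dperp D d, σ (d * b * d) = σ d * σ b * σ d := fun b hb => by
    rw [ThreeTrans.conj_self_of_commute hT S.mem hb.2.2, hσb b hb _ _ (hpr₂ b hb), hσd,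
      hsw _ _ _ _ (hp₁ _) (hp₂ _) (hp₁ _) (hp₂ _)]
  have hdA : ∀ i, σ (d * A i * d) = σ d * σ (A i) * σ d := fun i => by
    show σ (B i) = _
    rw [(hσA i).2, (hσA i).1, hσd, swap_conj_swap, Equiv.swap_apply_left,
      Equiv.swap_apply_of_ne_of_ne (hp₁ i) (hp₂ i)]
  have hdB : ∀ i, σ (d * B i * d) = σ d * σ (B i) * σ d := fun i => by
    rw [show d * B i * d = A i from hflip _, (hσA i).1, (hσA i).2, hσd, swap_conj_swap,
      Equiv.swap_apply_right, Equiv.swap_apply_of_ne_of_ne (hp₁ i) (hp₂ i)]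
  have hbb : ∀ b ∈ dperp D d, ∀ b' ∈ dperp D d, σ (b * b' * b) = σ b * σ b' * σ b := by
    intro b hb b' hb'
    have h := C.conj b hb b' hb'
    rw [hpr₂ b hb, hpr₂ b' hb', swap_conj_swap] at h
    rw [hσb _ (dperp_closed hG d b hb b' hb') _ _ h, hσb b hb _ _ (hpr₂ b hb),
      hσb b' hb' _ _ (hpr₂ b' hb'), swap_conj_swap, hswι, hswι]
  have hbA : ∀ b ∈ dperp D d, ∀ i, σ (b * A i * b) = σ b * σ (A i) * σ b := fun b hb i => by
    rw [hact b hb i, (hσA _).1, (hσA _).1, hσb b hb _ _ (hpr₂ b hb), swap_conj_swap, hswι,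
      Equiv.swap_apply_of_ne_of_ne (Ne.symm (hp₁ _)) (Ne.symm (hp₁ _)), hpr₂ b hb]
  have hbB : ∀ b ∈ dperp D d, ∀ i, σ (b * B i * b) = σ b * σ (B i) * σ b := fun b hb i => by
    have hbd : b * d = d * b := hb.2.2.symm.eq
    rw [show b * B i * b = B (φ b i) by
        show b * (d * A i * d) * b = d * A (φ b i) * d
        rw [← hact b hb i]
        calc b * (d * A i * d) * b = (b * d) * A i * (d * b) := by simp only [mul_assoc]
          _ = (d * b) * A i * (b * d) := by rw [hbd]
          _ = d * (b * A i * b) * d := by simp only [mul_assoc],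
      (hσA _).2, (hσA _).2, hσb b hb _ _ (hpr₂ b hb), swap_conj_swap, hswι,
      Equiv.swap_apply_of_ne_of_ne (Ne.symm (hp₂ _)) (Ne.symm (hp₂ _)), hpr₂ b hb]
  -- two members of one sheet
  have hAAmem : ∀ i j, i ≠ j → ∃ b ∈ dperp D d, φ b = Equiv.swap i j ∧ b * A i * b = A j ∧
      ¬ Commute b (A i) ∧ A i * A j * A i = b := by
    intro i j hij
    obtain ⟨b, hb, he⟩ := C.exists_eq (swap_mem hij)
    have hAj : b * A i * b = A j := by rw [hact b hb i, he, Equiv.swap_apply_left]
    have hnc : ¬ Commute b (A i) := fun h => hij (hAinj _ _ (by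
      rw [← hAj, ThreeTrans.conj_self_of_commute hT hb.1 h]))
    refine ⟨b, hb, he, hAj, hnc, ?_⟩
    rw [← hAj, braid hT hb.1 (hAmem i).1 hnc]
    simp only [mul_assoc, mul_self_mul hT (hAmem i).1, mul_self hT (hAmem i).1, mul_one]
  have hAA : ∀ i j, σ (A i * A j * A i) = σ (A i) * σ (A j) * σ (A i) := fun i j => by
    rcases eq_or_ne i j with rfl | hij
    · rw [mul_self hT (hAmem i).1, one_mul, mul_self group_swaps.1 (hmaps (hAmem i).1), one_mul]
    obtain ⟨b, hb, he, -, -, h⟩ := hAAmem i j hij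
    rw [h, hσb b hb i j he, (hσA i).1, (hσA j).1, swap_conj_swap, Equiv.swap_apply_left,
      Equiv.swap_apply_of_ne_of_ne (Ne.symm (Ne.symm (hp₁ j))) (hι.ne (Ne.symm hij))]
  have hBB : ∀ i j, σ (B i * B j * B i) = σ (B i) * σ (B j) * σ (B i) := fun i j => by
    rcases eq_or_ne i j with rfl | hij
    · rw [mul_self hT (hBmem i).1, one_mul, mul_self group_swaps.1 (hmaps (hBmem i).1), one_mul]
    obtain ⟨b, hb, he, -, -, h⟩ := hAAmem i j hij
    have hB : B i * B j * B i = b := by
      calc B i * B j * B i = d * (A i * A j * A i) * d := by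
            show d * A i * d * (d * A j * d) * (d * A i * d) = _
            simp only [mul_assoc, mul_self_mul hT S.mem]
        _ = b := by rw [h, ThreeTrans.conj_self_of_commute hT S.mem hb.2.2]
    rw [hB, hσb b hb i j he, (hσA i).2, (hσA j).2, swap_conj_swap, Equiv.swap_apply_left,
      Equiv.swap_apply_of_ne_of_ne (hp₂ j) (hι.ne (Ne.symm hij))]
  have hABc : ∀ i j, σ (A i * B j * A i) = σ (A i) * σ (B j) * σ (A i) := fun i j => by
    rcases eq_or_ne i j with rfl | hij
    · have h : A i * B i * A i = d := by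
        show A i * (d * A i * d) * A i = d
        rw [braid hT S.mem (hAmem i).1 (hAmem i).2]
        simp only [mul_assoc, mul_self_mul hT (hAmem i).1, mul_self hT (hAmem i).1, mul_one]
      rw [h, hσd, (hσA i).1, (hσA i).2, swap_conj_swap, Equiv.swap_apply_right,
        Equiv.swap_apply_of_ne_of_ne (Ne.symm hp12) (Ne.symm (hp₂ i))]
      exact Equiv.swap_comm _ _
    obtain ⟨b, hb, -, hAj, hnc, -⟩ := hAAmem i j hij
    have hcm : Commute (A i) (B j) := by
      show Commute (A i) (d * A j * d)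
      rw [← hAj]
      exact (nbr_spec hG S.mem (hAmem i) hb hnc).2
    rw [ThreeTrans.conj_self_of_commute hT (hAmem i).1 hcm, (hσA i).1, (hσA j).2,
      hsw _ _ _ _ (Ne.symm hp12) (Ne.symm (hp₂ i)) (hp₁ j) (hι.ne (Ne.symm hij))]
  have hswap := fun x y hx hy h =>
    conj_swap_order (x := x) (y := y) hG group_swaps.1 hbij hx hy h
  obtain ⟨e, he, -⟩ := equiv_of_bij hG S.center_eq_bot group_swaps
    (center_eq_bot (by rw [Fintype.card_fin]; omega)) hbij (fun x hx y hy => by
      rcases hkind x hx with hxd | hxb | ⟨i, hxA⟩ | ⟨i, hxB⟩ <;>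
        rcases hkind y hy with hyd | hyb | ⟨j, hyA⟩ | ⟨j, hyB⟩
      · rw [hxd, hyd]; exact hdd
      · rw [hxd]; exact hdb y hyb
      · rw [hxd, hyA]; exact hdA j
      · rw [hxd, hyB]; exact hdB j
      · rw [hyd]; exact hswap d x S.mem hx (hdb x hxb)
      · exact hbb x hxb y hyb
      · rw [hyA]; exact hbA x hxb j
      · rw [hyB]; exact hbB x hxb j
      · rw [hxA, hyd]; exact hswap d _ S.mem (hAmem i).1 (hdA i)
      · rw [hxA]; exact hswap y _ hy (hAmem i).1 (hbA y hyb i)
      · rw [hxA, hyA]; exact hAA i j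
      · rw [hxA, hyB]; exact hABc i j
      · rw [hxB, hyd]; exact hswap d _ S.mem (hBmem i).1 (hdB i)
      · rw [hxB]; exact hswap y _ hy (hBmem i).1 (hbB y hyb i)
      · rw [hxB, hyA]; exact hswap (A j) _ (hAmem j).1 (hBmem i).1 (hABc j i)
      · rw [hxB, hyB]; exact hBB i j)
  exact ⟨e, he⟩

end SymCase

/-- A symmetric group below gives the symmetric group of degree two higher. -/
theorem sym {G : Type*} [Group G] [Finite G] {D : Set G} {d : G} {m : ℕ} (S : Step D d)
    (hm : 5 ≤ m) (hm6 : m ≠ 6) (h : SymAt (lowSet D d) m) : SymAt D (m + 2) := by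
  obtain ⟨φ, hφ⟩ := S.exists_chart h
  exact SymCase.exists_equiv S hφ hm hm6

end Cfsg.Agent.FischerThm
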