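import Cfsg.Agent.FischerThm.Sym.Swaps

/-!
# A closed set of transpositions that looks everywhere like those avoiding one point
-/

set_option autoImplicit false

open Cfsg
open Cfsg.Agent.ThreeTrans (dperp)

namespace Cfsg.Agent.FischerThm.SymCase

variable {m : ℕ}

/-- The transpositions inside `B`. -/
def swapsIn (B : Finset (Fin m)) : Set (Equiv.Perm (Fin m)) :=
  {σ | ∃ a b, a ∈ B ∧ b ∈ B ∧ a ≠ b ∧ σ = Equiv.swap a b}

/-- Joined by a noncommuting chain inside `T`. -/
def Linked (T : Set (Equiv.Perm (Fin m))) (σ τ : Equiv.Perm (Fin m)) : Prop :=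
  Relation.ReflTransGen (fun u v => (u ∈ T ∧ v ∈ T) ∧ ¬ Commute u v) σ τ

theorem ncard_swapsIn (B : Finset (Fin m)) : (swapsIn B).ncard = B.card.choose 2 := by
  classical
  rw [← Finset.card_powersetCard, ← Set.ncard_coe_finset]
  refine Set.ncard_congr (fun σ _ => σ.support) ?_ ?_ ?_
  · rintro σ ⟨a, b, ha, hb, hab, rfl⟩
    rw [Finset.mem_coe, Finset.mem_powersetCard, Equiv.Perm.support_swap hab]
    exact ⟨by simp [Finset.insert_subset_iff, ha, hb], Finset.card_pair hab⟩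
  · rintro σ τ ⟨a, b, -, -, hab, rfl⟩ ⟨c, d, -, -, hcd, rfl⟩ h
    rw [Equiv.Perm.support_swap hab, Equiv.Perm.support_swap hcd] at h
    have ha : a ∈ ({c, d} : Finset (Fin m)) := h ▸ Finset.mem_insert_self _ _
    have hb : b ∈ ({c, d} : Finset (Fin m)) :=
      h ▸ Finset.mem_insert_of_mem (Finset.mem_singleton_self _)
    simp only [Finset.mem_insert, Finset.mem_singleton] at ha hb
    rcases ha with rfl | rfl <;> rcases hb with rfl | rfl
    · exact absurd rfl hab
    · rfl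
    · exact Equiv.swap_comm _ _
    · exact absurd rfl hab
  · intro s hs
    rw [Finset.mem_coe, Finset.mem_powersetCard] at hs
    obtain ⟨a, b, hab, rfl⟩ := Finset.card_eq_two.1 hs.2
    exact ⟨_, ⟨a, b, hs.1 (by simp), hs.1 (by simp), hab, rfl⟩, Equiv.Perm.support_swap hab⟩

theorem eq_of_choose_two {a b : ℕ} (ha : 2 ≤ a) (h : a.choose 2 = b.choose 2) : a = b := by
  have hpos : 0 < a.choose 2 := Nat.choose_pos ha
  have hb : 2 ≤ b := by
    by_contra hb
    rw [Nat.choose_eq_zero_of_lt (by omega : b < 2)] at h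
    omega
  have hlt' : ∀ u v : ℕ, 1 ≤ u → u < v → u.choose 2 < v.choose 2 := fun u v hu huv =>
    lt_of_lt_of_le (show u.choose 2 < (u + 1).choose 2 by
      have h := Nat.choose_succ_succ' u 1
      rw [Nat.choose_one_right] at h
      norm_num at h ⊢
      omega) (Nat.choose_le_choose 2 huv)
  rcases lt_trichotomy a b with hlt | rfl | hlt
  · exact absurd h (hlt' a b (by omega) hlt).ne
  · rfl
  · exact absurd h.symm (hlt' b a (by omega) hlt).ne

theorem linked_swapsIn (B : Finset (Fin m)) {σ τ : Equiv.Perm (Fin m)}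
    (hσ : σ ∈ swapsIn B) (hτ : τ ∈ swapsIn B) : Linked (swapsIn B) σ τ := by
  obtain ⟨a, b, ha, hb, hab, rfl⟩ := hσ
  obtain ⟨c, d, hc, hd, hcd, rfl⟩ := hτ
  by_cases hne : Equiv.swap a b = Equiv.swap c d
  · rw [hne]; exact Relation.ReflTransGen.refl
  by_cases hcm : Commute (Equiv.swap a b) (Equiv.swap c d)
  · obtain ⟨hac, had, hbc, hbd⟩ := (commute_swap_iff hab hcd hne).1 hcm
    have h1 : ¬ Commute (Equiv.swap a b) (Equiv.swap a c) := fun h => by
      refine ((commute_swap_iff hab hac fun he => ?_).1 h).1 rfl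
      rcases swap_eq_swap hab he with h' | h'
      exacts [hbc h'.2, hac h'.1]
    have h2 : ¬ Commute (Equiv.swap a c) (Equiv.swap c d) := fun h => by
      refine ((commute_swap_iff hac hcd fun he => ?_).1 h).2.2.1 rfl
      rcases swap_eq_swap hac he with h' | h'
      exacts [hac h'.1, had h'.1]
    exact (Relation.ReflTransGen.single ⟨⟨⟨a, b, ha, hb, hab, rfl⟩, a, c, ha, hc, hac, rfl⟩, h1⟩).tail
      ⟨⟨⟨a, c, ha, hc, hac, rfl⟩, c, d, hc, hd, hcd, rfl⟩, h2⟩
  · exact Relation.ReflTransGen.single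
      ⟨⟨⟨a, b, ha, hb, hab, rfl⟩, c, d, hc, hd, hcd, rfl⟩, hcm⟩

theorem shape {Y : Set (Equiv.Perm (Fin m))} (hm : 5 ≤ m) (hm6 : m ≠ 6)
    (hY : Y ⊆ swaps (Fin m)) (hc : ∀ u ∈ Y, ∀ v ∈ Y, u * v * u ∈ Y) (hne : Y.Nonempty)
    (hcard : ∀ x ∈ Y, (Y ∩ dperp (swaps (Fin m)) x).ncard = (m - 3).choose 2)
    (hlink : ∀ x ∈ Y, ∀ σ ∈ Y ∩ dperp (swaps (Fin m)) x, ∀ τ ∈ Y ∩ dperp (swaps (Fin m)) x,
      Linked (Y ∩ dperp (swaps (Fin m)) x) σ τ) :
    (∃ o, Y = swapsIn (Finset.univ.erase o)) ∨ (m = 5 ∧ Y.ncard = 2) := by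
  classical
  let R : Fin m → Fin m → Prop := fun a b => a = b ∨ Equiv.swap a b ∈ Y
  have hsym : ∀ {a b}, R a b → R b a := by
    rintro a b (h | h)
    exacts [Or.inl h.symm, Or.inr (Equiv.swap_comm a b ▸ h)]
  have htr : ∀ {a b c}, R a b → R b c → R a c := by
    rintro a b c (rfl | hab) (rfl | hbc)
    · exact Or.inl rfl
    · exact Or.inr hbc
    · exact Or.inr hab
    rcases eq_or_ne a c with rfl | hac
    · exact Or.inl rfl
    rcases eq_or_ne b c with rfl | hbc'
    · exact Or.inr hab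
    rcases eq_or_ne a b with rfl | hab'
    · exact Or.inr hbc
    have h := hc _ hab _ hbc
    rw [swap_conj_swap, Equiv.swap_apply_right,
      Equiv.swap_apply_of_ne_of_ne (Ne.symm hac) (Ne.symm hbc')] at h
    exact Or.inr h
  let C : Fin m → Finset (Fin m) := fun a => Finset.univ.filter (R a)
  have hmemC : ∀ {a b}, b ∈ C a ↔ R a b := by simp [C]
  have hedge : ∀ {a b}, a ≠ b → R a b → Equiv.swap a b ∈ Y := fun hab h => h.resolve_left hab
  -- the transpositions disjoint from one of them lie in one class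
  have key : ∀ i j, i ≠ j → Equiv.swap i j ∈ Y → ∃ k l, k ≠ l ∧ Equiv.swap k l ∈ Y ∧
      (i ≠ k ∧ i ≠ l ∧ j ≠ k ∧ j ≠ l) ∧
      (∀ a b, a ≠ b → Equiv.swap a b ∈ Y → (i ≠ a ∧ i ≠ b ∧ j ≠ a ∧ j ≠ b) → a ∈ C k ∧ b ∈ C k) ∧
      ((C k).filter fun a => a ≠ i ∧ a ≠ j).card = m - 3 := by
    intro i j hij hx
    set T := Y ∩ dperp (swaps (Fin m)) (Equiv.swap i j)
    have hTc : T.ncard = (m - 3).choose 2 := hcard _ hx
    have hTne : T.Nonempty := (Set.ncard_pos (Set.toFinite _)).1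
      (hTc ▸ Nat.choose_pos (by omega : 2 ≤ m - 3))
    obtain ⟨σ, hσY, hσd⟩ := hTne
    obtain ⟨k, l, hkl, rfl⟩ := hY hσY
    have hdis := (mem_dperp_swap_iff hij hkl).1 hσd
    have hall : ∀ τ, Linked T (Equiv.swap k l) τ → ∀ a b, a ≠ b → τ = Equiv.swap a b →
        a ∈ C k ∧ b ∈ C k := by
      intro τ hτ
      induction hτ with
      | refl =>
        intro a b hab he
        rcases swap_eq_swap hab he.symm with ⟨rfl, rfl⟩ | ⟨rfl, rfl⟩
        · exact ⟨hmemC.2 (Or.inl rfl), hmemC.2 (Or.inr hσY)⟩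
        · exact ⟨hmemC.2 (Or.inr hσY), hmemC.2 (Or.inl rfl)⟩
      | @tail u v _ huv ih =>
        intro a b hab he
        subst he
        obtain ⟨c, d, hcd, rfl⟩ := hY huv.1.1.1
        obtain ⟨hcC, hdC⟩ := ih c d hcd rfl
        have hRab : R a b := Or.inr huv.1.2.1
        have hnc : Equiv.swap c d ≠ Equiv.swap a b := fun h => huv.2 (h ▸ Commute.refl _)
        have hshare := huv.2
        rw [commute_swap_iff hcd hab hnc] at hshare
        rw [hmemC] at hcC hdC ⊢
        rw [hmemC]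
        have hor : c = a ∨ c = b ∨ d = a ∨ d = b := by
          by_contra hh
          push Not at hh
          exact hshare hh
        rcases hor with rfl | rfl | rfl | rfl
        · exact ⟨hcC, htr hcC hRab⟩
        · exact ⟨htr hcC (hsym hRab), hcC⟩
        · exact ⟨hdC, htr hdC hRab⟩
        · exact ⟨htr hdC (hsym hRab), hdC⟩
    have hin : ∀ a b, a ≠ b → Equiv.swap a b ∈ Y → (i ≠ a ∧ i ≠ b ∧ j ≠ a ∧ j ≠ b) →
        a ∈ C k ∧ b ∈ C k := fun a b hab hY' hd =>
      hall _ (hlink _ hx _ ⟨hσY, hσd⟩ _ ⟨hY', (mem_dperp_swap_iff hij hab).2 hd⟩) a b hab rfl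
    have hTeq : T = swapsIn ((C k).filter fun a => a ≠ i ∧ a ≠ j) := by
      apply Set.Subset.antisymm
      · rintro τ ⟨hτY, hτd⟩
        obtain ⟨a, b, hab, rfl⟩ := hY hτY
        have hd := (mem_dperp_swap_iff hij hab).1 hτd
        obtain ⟨ha, hb⟩ := hin a b hab hτY hd
        exact ⟨a, b, Finset.mem_filter.2 ⟨ha, Ne.symm hd.1, Ne.symm hd.2.2.1⟩,
          Finset.mem_filter.2 ⟨hb, Ne.symm hd.2.1, Ne.symm hd.2.2.2⟩, hab, rfl⟩
      · rintro τ ⟨a, b, ha, hb, hab, rfl⟩
        rw [Finset.mem_filter, hmemC] at ha hb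
        exact ⟨hedge hab (htr (hsym ha.1) hb.1), (mem_dperp_swap_iff hij hab).2
          ⟨Ne.symm ha.2.1, Ne.symm hb.2.1, Ne.symm ha.2.2, Ne.symm hb.2.2⟩⟩
    refine ⟨k, l, hkl, hσY, hdis, hin, (eq_of_choose_two (by omega) ?_).symm⟩
    rw [← ncard_swapsIn, ← hTeq, hTc]
  obtain ⟨x, hx⟩ := hne
  obtain ⟨i, j, hij, rfl⟩ := hY hx
  obtain ⟨k, l, hkl, hy, hdis, hin, hB⟩ := key i j hij hx
  have hall : ∀ a b, a ≠ b → Equiv.swap a b ∈ Y → (a ∈ C i ∧ b ∈ C i) ∨ (a ∈ C k ∧ b ∈ C k) := by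
    intro a b hab hY'
    by_cases hd : i ≠ a ∧ i ≠ b ∧ j ≠ a ∧ j ≠ b
    · exact Or.inr (hin a b hab hY' hd)
    have hRij : R i j := Or.inr hx
    have hRab : R a b := Or.inr hY'
    have hor : i = a ∨ i = b ∨ j = a ∨ j = b := by
      by_contra hh
      push Not at hh
      exact hd hh
    left
    rw [hmemC, hmemC]
    rcases hor with rfl | rfl | rfl | rfl
    · exact ⟨Or.inl rfl, hRab⟩
    · exact ⟨hsym hRab, Or.inl rfl⟩
    · exact ⟨hRij, htr hRij hRab⟩
    · exact ⟨htr hRij (hsym hRab), hRij⟩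
  by_cases hik : R i k
  · -- one class, missing one point
    left
    have hCeq : C i = C k := by
      ext a
      rw [hmemC, hmemC]
      exact ⟨fun h => htr (hsym hik) h, fun h => htr hik h⟩
    have hsplit : C k = insert i (insert j ((C k).filter fun a => a ≠ i ∧ a ≠ j)) := by
      ext a
      simp only [Finset.mem_insert, Finset.mem_filter]
      constructor
      · intro h
        by_cases h1 : a = i
        · exact Or.inl h1
        by_cases h2 : a = j
        · exact Or.inr (Or.inl h2)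
        exact Or.inr (Or.inr ⟨h, h1, h2⟩)
      · rintro (rfl | rfl | h)
        · exact hCeq ▸ hmemC.2 (Or.inl rfl)
        · exact hCeq ▸ hmemC.2 (Or.inr hx)
        · exact h.1
    have hcC : (C k).card = m - 1 := by
      rw [hsplit, Finset.card_insert_of_notMem, Finset.card_insert_of_notMem, hB]
      · omega
      · simp
      · simp [hij]
    obtain ⟨o, ho⟩ : ∃ o, (C k)ᶜ = {o} := Finset.card_eq_one.1 (by
      rw [Finset.card_compl, hcC, Fintype.card_fin]; omega)
    refine ⟨o, ?_⟩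
    have hCo : C k = Finset.univ.erase o := by
      ext a
      have := congrArg (a ∈ ·) ho
      simp only [Finset.mem_compl, Finset.mem_singleton, eq_iff_iff] at this
      simp only [Finset.mem_erase, Finset.mem_univ, and_true, ne_eq]
      tauto
    rw [← hCo]
    apply Set.Subset.antisymm
    · intro τ hτ
      obtain ⟨a, b, hab, rfl⟩ := hY hτ
      rcases hall a b hab hτ with ⟨h1, h2⟩ | ⟨h1, h2⟩
      exacts [⟨a, b, hCeq ▸ h1, hCeq ▸ h2, hab, rfl⟩, ⟨a, b, h1, h2, hab, rfl⟩]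
    · rintro τ ⟨a, b, ha, hb, hab, rfl⟩
      exact hedge hab (htr (hsym (hmemC.1 ha)) (hmemC.1 hb))
  -- two classes
  right
  have hdisj : Disjoint (C i) (C k) := Finset.disjoint_left.2 fun a h1 h2 =>
    hik (htr (hmemC.1 h1) (hsym (hmemC.1 h2)))
  have hCk : ((C k).filter fun a => a ≠ i ∧ a ≠ j) = C k := Finset.filter_true_of_mem fun a ha =>
    ⟨fun h => hik (hsym (hmemC.1 (h ▸ ha))),
      fun h => Finset.disjoint_left.1 hdisj (hmemC.2 (Or.inr hx)) (h ▸ ha)⟩
  rw [hCk] at hB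
  have hsum : (C i).card + (C k).card ≤ m := by
    rw [← Finset.card_union_of_disjoint hdisj]
    exact (Finset.card_le_univ _).trans (le_of_eq (Fintype.card_fin m))
  obtain ⟨k', l', hkl', hy', -, hin', hB'⟩ := key k l hkl hy
  have hik' : R k' i := hmemC.1 (hin' i j hij hx
    ⟨Ne.symm hdis.1, Ne.symm hdis.2.2.1, Ne.symm hdis.2.1, Ne.symm hdis.2.2.2⟩).1
  have hCk' : C k' = C i := by
    ext a
    rw [hmemC, hmemC]
    exact ⟨fun h => htr (hsym hik') h, fun h => htr hik' h⟩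
  have hle : m - 3 ≤ (C i).card := hB' ▸ hCk' ▸ Finset.card_filter_le _ _
  have hi2 : ({i, j} : Finset (Fin m)) ⊆ C i := by
    intro a ha
    rcases Finset.mem_insert.1 ha with rfl | ha
    · exact hmemC.2 (Or.inl rfl)
    · exact hmemC.2 (Or.inr (Finset.mem_singleton.1 ha ▸ hx))
  have hk2 : ({k, l} : Finset (Fin m)) ⊆ C k := by
    intro a ha
    rcases Finset.mem_insert.1 ha with rfl | ha
    · exact hmemC.2 (Or.inl rfl)
    · exact hmemC.2 (Or.inr (Finset.mem_singleton.1 ha ▸ hy))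
  have hm5 : m = 5 := by omega
  refine ⟨hm5, ?_⟩
  have hi : C i = {i, j} ∨ (C i).card = 3 := by
    have h2 : 2 ≤ (C i).card := Finset.card_pair hij ▸ Finset.card_le_card hi2
    rcases (show (C i).card = 2 ∨ (C i).card = 3 by omega) with h | h
    · exact Or.inl (Finset.eq_of_subset_of_card_le hi2 (by rw [h, Finset.card_pair hij])).symm
    · exact Or.inr h
  have hkeq : C k = {k, l} :=
    (Finset.eq_of_subset_of_card_le hk2 (by rw [hB, Finset.card_pair hkl]; omega)).symm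
  have hieq : C i = {i, j} := by
    refine hi.resolve_right fun h3 => ?_
    have h : ((C i).filter fun a => a ≠ k ∧ a ≠ l) = C i := Finset.filter_true_of_mem fun a ha =>
      ⟨fun he => Finset.disjoint_left.1 hdisj ha (he ▸ hk2 (Finset.mem_insert_self _ _)),
        fun he => Finset.disjoint_left.1 hdisj ha
          (he ▸ hk2 (Finset.mem_insert_of_mem (Finset.mem_singleton_self _)))⟩
    rw [hCk', h, h3] at hB'
    omega
  have hYeq : Y = {Equiv.swap i j, Equiv.swap k l} := by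
    apply Set.Subset.antisymm
    · intro τ hτ
      obtain ⟨a, b, hab, rfl⟩ := hY hτ
      rcases hall a b hab hτ with ⟨h1, h2⟩ | ⟨h1, h2⟩
      · rw [hieq, Finset.mem_insert, Finset.mem_singleton] at h1 h2
        rcases h1 with rfl | rfl <;> rcases h2 with rfl | rfl
        exacts [absurd rfl hab, Or.inl rfl, Or.inl (Equiv.swap_comm _ _), absurd rfl hab]
      · rw [hkeq, Finset.mem_insert, Finset.mem_singleton] at h1 h2
        rcases h1 with rfl | rfl <;> rcases h2 with rfl | rfl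
        exacts [absurd rfl hab, Or.inr rfl, Or.inr (Equiv.swap_comm _ _), absurd rfl hab]
    · rintro τ (rfl | rfl)
      exacts [hx, hy]
  rw [hYeq, Set.ncard_pair]
  intro he
  rcases swap_eq_swap hij he with h | h
  exacts [hdis.1 h.1, hdis.2.1 h.1]

end Cfsg.Agent.FischerThm.SymCase
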