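import Cfsg.Agent.FischerThm.Local.Recognize
import Cfsg.Agent.FischerThm.Sym.Shape
import Cfsg.Agent.ThreeTrans.SrgTrace

/-!
# A symmetric group below gives the symmetric group of degree two higher

The common partners of a line through `d` are the transpositions avoiding one point `o`; this labels
the `2m` members not commuting with `d` by a point and a sheet.
-/

set_option autoImplicit false

open Cfsg
open Cfsg.Agent.ThreeTrans (dperp mul_self mul_self_mul mul_mul_self commute_conj braid)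

namespace Cfsg.Agent.FischerThm.SymCase

variable {G : Type*} [Group G] [Finite G] {D : Set G} {d c b : G} {m : ℕ}
  {φ : G → Equiv.Perm (Fin m)}

theorem swaps_eq_swapsIn : swaps (Fin m) = swapsIn (Finset.univ : Finset (Fin m)) := by
  apply Set.Subset.antisymm
  · rintro σ ⟨a, b, hab, rfl⟩
    exact ⟨a, b, Finset.mem_univ _, Finset.mem_univ _, hab, rfl⟩
  · rintro σ ⟨a, b, -, -, hab, rfl⟩
    exact swap_mem hab

theorem dperp_swap_eq {i j : Fin m} (hij : i ≠ j) :
    dperp (swaps (Fin m)) (Equiv.swap i j) =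
      swapsIn (Finset.univ.filter fun a => a ≠ i ∧ a ≠ j) := by
  apply Set.Subset.antisymm
  · intro σ hσ
    obtain ⟨a, b, hab, rfl⟩ := hσ.1
    obtain ⟨h1, h2, h3, h4⟩ := (mem_dperp_swap_iff hij hab).1 hσ
    exact ⟨a, b, Finset.mem_filter.2 ⟨Finset.mem_univ _, Ne.symm h1, Ne.symm h3⟩,
      Finset.mem_filter.2 ⟨Finset.mem_univ _, Ne.symm h2, Ne.symm h4⟩, hab, rfl⟩
  · rintro σ ⟨a, b, ha, hb, hab, rfl⟩
    rw [Finset.mem_filter] at ha hb
    exact (mem_dperp_swap_iff hij hab).2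
      ⟨Ne.symm ha.2.1, Ne.symm hb.2.1, Ne.symm ha.2.2, Ne.symm hb.2.2⟩

theorem card_filter_ne_two {i j : Fin m} (hij : i ≠ j) :
    (Finset.univ.filter fun a : Fin m => a ≠ i ∧ a ≠ j).card = m - 2 := by
  rw [show (Finset.univ.filter fun a : Fin m => a ≠ i ∧ a ≠ j) = ({i, j} : Finset (Fin m))ᶜ by
    ext a; simp, Finset.card_compl, Finset.card_pair hij, Fintype.card_fin]

variable (S : Step D d) (C : Chart D d (swaps (Fin m)) φ)
include S C

omit S [Finite G] in
theorem ncard_partners : (dperp D d).ncard = m.choose 2 := by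
  rw [C.ncard_eq, swaps_eq_swapsIn, ncard_swapsIn, Finset.card_univ, Fintype.card_fin]

omit S [Finite G] in
theorem ncard_lambda {x : G} (hx : x ∈ dperp D d) :
    (dperp D d ∩ dperp D x).ncard = (m - 2).choose 2 := by
  obtain ⟨i, j, hij, he⟩ := C.mem hx
  have hb := C.bijOn_dperp hx
  rw [← Set.InjOn.ncard_image hb.injOn, hb.image_eq, he, dperp_swap_eq hij, ncard_swapsIn,
    card_filter_ne_two hij]

/-- The common partners seen from one of them. -/
theorem local_shape (hc : c ∈ aside D d) {σ : Equiv.Perm (Fin m)} (hσ : σ ∈ φ '' common D d c) :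
    (φ '' common D d c ∩ dperp (swaps (Fin m)) σ).ncard = (m - 3).choose 2 ∧
      ∀ u ∈ φ '' common D d c ∩ dperp (swaps (Fin m)) σ,
      ∀ v ∈ φ '' common D d c ∩ dperp (swaps (Fin m)) σ,
        Linked (φ '' common D d c ∩ dperp (swaps (Fin m)) σ) u v := by
  classical
  obtain ⟨x, hx, rfl⟩ := hσ
  obtain ⟨a, ha, c', hc', ψ, hψ, hcom, -, hiff⟩ := S.local_common C hc hx
  set T := φ '' common D d c ∩ dperp (swaps (Fin m)) (φ x)
  set U := dperp (swaps (Fin m)) a ∩ dperp (swaps (Fin m)) c' with hU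
  have himg : Set.BijOn ψ T U := by
    refine ⟨?_, hψ.injOn.mono Set.inter_subset_right, ?_⟩
    · rintro - ⟨⟨z, hz, rfl⟩, hzx⟩
      exact ⟨hψ.mapsTo hzx, (hiff z ⟨hz.1, (C.mem_dperp_iff hx.1 hz.1).1 hzx⟩).1 hz⟩
    · rintro u ⟨hua, huc⟩
      obtain ⟨e, he, rfl⟩ := hψ.surjOn hua
      obtain ⟨z, hz, rfl⟩ := (C.bijOn_dperp hx.1).surjOn he
      exact ⟨φ z, ⟨⟨z, (hiff z hz).2 huc, rfl⟩, he⟩, rfl⟩
  obtain ⟨p, q, hpq, rfl⟩ := ha
  obtain ⟨r, s, hrs, hc's⟩ := hc'.1
  have hne : Equiv.swap p q ≠ Equiv.swap r s := fun h => hc'.2 (by rw [hc's, h]; exact Commute.refl _)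
  have hnc := hc'.2
  rw [hc's, commute_swap_iff hpq hrs hne] at hnc
  obtain ⟨P, Q, R, hPQ, hPR, hQR, e1, e2⟩ : ∃ P Q R : Fin m, P ≠ Q ∧ P ≠ R ∧ Q ≠ R ∧
      Equiv.swap p q = Equiv.swap P Q ∧ c' = Equiv.swap P R := by
    have hor : p = r ∨ p = s ∨ q = r ∨ q = s := by
      by_contra hh
      push Not at hh
      exact hnc hh
    rcases hor with rfl | rfl | rfl | rfl
    · exact ⟨p, q, s, hpq, hrs, fun h => hne (by rw [h]), rfl, hc's⟩
    · exact ⟨p, q, r, hpq, Ne.symm hrs, fun h => hne (by rw [h, Equiv.swap_comm r]), rfl,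
        hc's.trans (Equiv.swap_comm _ _)⟩
    · exact ⟨q, p, s, Ne.symm hpq, hrs, fun h => hne (by rw [h, Equiv.swap_comm s]),
        Equiv.swap_comm _ _, hc's⟩
    · exact ⟨q, p, r, Ne.symm hpq, Ne.symm hrs, fun h => hne (by rw [h]),
        Equiv.swap_comm _ _, hc's.trans (Equiv.swap_comm _ _)⟩
  have hUeq : U = swapsIn (Finset.univ.filter fun z => z ≠ P ∧ z ≠ Q ∧ z ≠ R) := by
    rw [hU, e1, e2, dperp_swap_eq hPQ, dperp_swap_eq hPR]
    apply Set.Subset.antisymm
    · rintro σ ⟨⟨u, v, hu, hv, huv, rfl⟩, u', v', hu', hv', -, he⟩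
      rw [Finset.mem_filter] at hu hv hu' hv'
      rcases swap_eq_swap huv he with ⟨rfl, rfl⟩ | ⟨rfl, rfl⟩
      · exact ⟨u, v, Finset.mem_filter.2 ⟨hu.1, hu.2.1, hu.2.2, hu'.2.2⟩,
          Finset.mem_filter.2 ⟨hv.1, hv.2.1, hv.2.2, hv'.2.2⟩, huv, rfl⟩
      · exact ⟨u, v, Finset.mem_filter.2 ⟨hu.1, hu.2.1, hu.2.2, hv'.2.2⟩,
          Finset.mem_filter.2 ⟨hv.1, hv.2.1, hv.2.2, hu'.2.2⟩, huv, rfl⟩
    · rintro σ ⟨u, v, hu, hv, huv, rfl⟩
      rw [Finset.mem_filter] at hu hv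
      exact ⟨⟨u, v, Finset.mem_filter.2 ⟨hu.1, hu.2.1, hu.2.2.1⟩,
        Finset.mem_filter.2 ⟨hv.1, hv.2.1, hv.2.2.1⟩, huv, rfl⟩,
        u, v, Finset.mem_filter.2 ⟨hu.1, hu.2.1, hu.2.2.2⟩,
        Finset.mem_filter.2 ⟨hv.1, hv.2.1, hv.2.2.2⟩, huv, rfl⟩
  have hcardU : U.ncard = (m - 3).choose 2 := by
    rw [hUeq, ncard_swapsIn]
    congr 1
    rw [show (Finset.univ.filter fun z : Fin m => z ≠ P ∧ z ≠ Q ∧ z ≠ R) =
      ({P, Q, R} : Finset (Fin m))ᶜ by ext z; simp, Finset.card_compl, Fintype.card_fin,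
      Finset.card_insert_of_notMem (by simp [hPQ, hPR]), Finset.card_pair hQR]
  refine ⟨?_, fun u hu v hv => ?_⟩
  · rw [← Set.InjOn.ncard_image himg.injOn, himg.image_eq, hcardU]
  · have key : ∀ u' v', Linked U u' v' → ∀ u v, u ∈ T → v ∈ T → ψ u = u' → ψ v = v' →
        Linked T u v := by
      intro u' v' h
      induction h with
      | refl =>
        intro u v hu hv h1 h2
        rw [himg.injOn hu hv (h1.trans h2.symm)]
        exact Relation.ReflTransGen.refl
      | @tail w v' _ hwv ih =>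
        intro u v hu hv h1 h2
        obtain ⟨w₀, hw₀, rfl⟩ := himg.surjOn hwv.1.1
        refine (ih u w₀ hu hw₀ h1 rfl).tail ⟨⟨hw₀, hv⟩, fun h => hwv.2 ?_⟩
        rw [← h2]
        exact (hcom w₀ hw₀.2 v hv.2).2 h
    refine key _ _ ?_ u v hu hv rfl rfl
    rw [hUeq]
    exact linked_swapsIn _ (hUeq ▸ himg.mapsTo hu) (hUeq ▸ himg.mapsTo hv)

theorem shape_or_two (hm : 5 ≤ m) (hm6 : m ≠ 6) (hc : c ∈ aside D d) :
    (∃ o, φ '' common D d c = swapsIn (Finset.univ.erase o)) ∨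
      (m = 5 ∧ (common D d c).ncard = 2) := by
  have hsub : common D d c ⊆ dperp D d := Set.inter_subset_left
  have hne : (φ '' common D d c).Nonempty := by
    obtain ⟨z, hz, hzc⟩ := ThreeTrans.exists_common S.sol' S.perf S.cls S.mem hc.1 hc.2
    exact ⟨φ z, z, ⟨hz, hz.1, fun e => hc.2 (e ▸ hz.2.2), hzc.symm⟩, rfl⟩
  have hcl : ∀ u ∈ φ '' common D d c, ∀ v ∈ φ '' common D d c, u * v * u ∈ φ '' common D d c := by
    rintro - ⟨u, hu, rfl⟩ - ⟨v, hv, rfl⟩
    exact ⟨u * v * u, common_closed S.group d c u hu v hv, C.conj u hu.1 v hv.1⟩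
  rcases shape hm hm6 (by rintro - ⟨z, hz, rfl⟩; exact C.mem hz.1) hcl hne
    (fun σ hσ => (local_shape S C hc hσ).1) (fun σ hσ => (local_shape S C hc hσ).2) with h | ⟨h5, h2⟩
  · exact Or.inl h
  · refine Or.inr ⟨h5, ?_⟩
    rw [← h2, Set.InjOn.ncard_image (C.bij.injOn.mono hsub)]

omit S C in
/-- The exceptional local configuration is excluded by integrality of eigenvalues. -/
theorem not_two {φ : G → Equiv.Perm (Fin 5)} (S : Step D d) (C : Chart D d (swaps (Fin 5)) φ)
    (hc : c ∈ aside D d) (h2 : (common D d c).ncard = 2) : False := by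
  classical
  have : Fintype D := Fintype.ofFinite _
  let R : D → D → Prop := fun a b => (b : G) ∈ dperp D (a : G)
  have hchart : ∀ a : D, ∃ θ, Chart D (a : G) (swaps (Fin 5)) θ := fun a => by
    obtain ⟨g, hg⟩ := ThreeTrans.class_isConj S.cls a.2 S.mem
    exact ⟨_, C.moveTo S.group.2.1 hg⟩
  have himage : ∀ a : D, ∀ T : Set G, T ⊆ D → ({b : D | (b : G) ∈ T} : Set D).ncard = T.ncard := by
    intro a T hT
    rw [← Set.ncard_image_of_injective _ Subtype.val_injective]
    congr 1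
    exact Set.Subset.antisymm (by rintro - ⟨b, hb, rfl⟩; exact hb)
      fun t ht => ⟨⟨t, hT ht⟩, ht, rfl⟩
  have h := ThreeTrans.isSquare_of_srg R
    (fun a b h => mem_dperp_swap a.2 h) (fun a h => h.2.1 rfl) 10 3 2
    (fun a => by
      obtain ⟨θ, hθ⟩ := hchart a
      rw [himage a _ fun t ht => ht.1, ncard_partners hθ]; rfl)
    (fun a b hab => by
      obtain ⟨θ, hθ⟩ := hchart a
      rw [show {z : D | R a z ∧ R b z} = {z : D | (z : G) ∈ dperp D (a : G) ∩ dperp D (b : G)} from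
        rfl, himage a _ fun t ht => ht.1.1, ncard_lambda hθ hab]; rfl)
    (fun a b hne hab => by
      rw [show {z : D | R a z ∧ R b z} = {z : D | (z : G) ∈ dperp D (a : G) ∩ dperp D (b : G)} from
        rfl, himage a _ fun t ht => ht.1.1, ← h2]
      have hnc : ¬ Commute (a : G) (b : G) := fun h =>
        hab ⟨b.2, fun e => hne (Subtype.ext e.symm), h⟩
      obtain ⟨g, hga, hgb⟩ := S.exists_conj_pair S.mem hc a.2 ⟨b.2, hnc⟩
      rw [← Set.ncard_image_of_injective (common D d c) (f := fun z => g * z * g⁻¹)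
        fun u v h => mul_left_cancel (mul_right_cancel h)]
      congr 1
      rw [common, Set.image_inter fun u v h => mul_left_cancel (mul_right_cancel h),
        (bijOn_conj_dperp S.group.2.1 g d).image_eq, (bijOn_conj_dperp S.group.2.1 g c).image_eq,
        hga, hgb])
    (by norm_num) (by norm_num) (by
      obtain ⟨p, hp, q, hq, hpq⟩ := S.two_members
      exact Fintype.one_lt_card_iff.2 ⟨⟨p, hp⟩, ⟨q, hq⟩, fun h => hpq (congrArg Subtype.val h)⟩)
  obtain ⟨r, hr⟩ := h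
  norm_num at hr
  have : r ≤ 6 := by nlinarith
  interval_cases r <;> omega

/-- The point avoided by the common partners. -/
theorem exists_label (hm : 5 ≤ m) (hm6 : m ≠ 6) (hc : c ∈ aside D d) :
    ∃ o, φ '' common D d c = swapsIn (Finset.univ.erase o) := by
  rcases shape_or_two S C hm hm6 hc with h | ⟨rfl, h2⟩
  · exact h
  · exact absurd h2 fun h => not_two S C hc h

omit S C [Finite G] in
theorem label_unique (hm : 5 ≤ m) {o o' : Fin m}
    (h : swapsIn (Finset.univ.erase o) = swapsIn (Finset.univ.erase o')) : o = o' := by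
  by_contra hne
  obtain ⟨a, -, ha⟩ : ∃ a ∈ (Finset.univ : Finset (Fin m)), a ∉ ({o, o'} : Finset (Fin m)) := by
    refine Finset.exists_mem_notMem_of_card_lt_card (Finset.card_le_two.trans_lt ?_)
    rw [Finset.card_univ, Fintype.card_fin]; omega
  simp only [Finset.mem_insert, Finset.mem_singleton, not_or] at ha
  have hmem : Equiv.swap o' a ∈ swapsIn (Finset.univ.erase o) :=
    ⟨o', a, by simp [Ne.symm hne], by simp [ha.1], Ne.symm ha.2, rfl⟩
  rw [h] at hmem
  obtain ⟨u, v, hu, hv, -, he⟩ := hmem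
  rcases swap_eq_swap (Ne.symm ha.2) he with ⟨rfl, -⟩ | ⟨rfl, -⟩
  · simp at hu
  · simp at hv

omit [Finite G] in
theorem label_conj (hb : b ∈ dperp D d) {o : Fin m}
    (h : φ '' common D d c = swapsIn (Finset.univ.erase o)) :
    φ '' common D d (b * c * b) = swapsIn (Finset.univ.erase (φ b o)) := by
  obtain ⟨i, j, hij, he⟩ := C.mem hb
  have hinv : φ b * φ b = 1 := by rw [he, Equiv.swap_mul_self]
  have hpt : ∀ w, φ b (φ b w) = w := fun w => by rw [← Equiv.Perm.mul_apply, hinv, Equiv.Perm.one_apply]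
  have hcj : ∀ u v, φ b * Equiv.swap u v * φ b = Equiv.swap (φ b u) (φ b v) := fun u v => by
    rw [← conj_swap, inv_eq_of_mul_eq_one_left hinv]
  have hback : ∀ z, b * (b * z * b) * b = z := fun z => by
    simp only [mul_assoc, mul_self S.set hb.1, mul_one, mul_self_mul S.set hb.1]
  apply Set.Subset.antisymm
  · rintro - ⟨x, hx, rfl⟩
    have hx' := (mem_common_conj S.group hb).1 hx
    obtain ⟨u, v, hu, hv, huv, hxe⟩ : φ (b * x * b) ∈ swapsIn (Finset.univ.erase o) :=
      h ▸ ⟨_, hx', rfl⟩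
    refine ⟨φ b u, φ b v, ?_, ?_, (φ b).injective.ne huv, ?_⟩
    · simpa using hu
    · simpa using hv
    · rw [← hcj, ← hxe, ← C.conj b hb _ hx'.1, hback]
  · rintro σ ⟨u, v, hu, hv, huv, rfl⟩
    have hmem : Equiv.swap (φ b u) (φ b v) ∈ φ '' common D d c := by
      rw [h]
      refine ⟨φ b u, φ b v, ?_, ?_, (φ b).injective.ne huv, rfl⟩
      · simp only [Finset.mem_erase, Finset.mem_univ, and_true] at hu ⊢
        exact fun hh => hu (by rw [← hpt u, hh])
      · simp only [Finset.mem_erase, Finset.mem_univ, and_true] at hv ⊢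
        exact fun hh => hv (by rw [← hpt v, hh])
    obtain ⟨z, hz, hze⟩ := hmem
    refine ⟨b * z * b, (mem_common_conj S.group hb).2 (by rwa [hback]), ?_⟩
    rw [C.conj b hb z hz.1, hze, hcj, hpt, hpt]

theorem ncard_aside (hm : 5 ≤ m) (hm6 : m ≠ 6) : (aside D d).ncard = 2 * m := by
  obtain ⟨x, hx⟩ := S.exists_dperp S.mem
  obtain ⟨c, hc, hcd⟩ := S.exists_not_commute S.mem
  have hc' : c ∈ aside D d := ⟨hc, hcd⟩
  obtain ⟨o, ho⟩ := exists_label S C hm hm6 hc'
  have hμ : (common D d c).ncard = (m - 1).choose 2 := by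
    rw [← Set.InjOn.ncard_image (C.bij.injOn.mono Set.inter_subset_left : Set.InjOn φ (common D d c)),
      ho, ncard_swapsIn, Finset.card_erase_of_mem (Finset.mem_univ _), Finset.card_univ,
      Fintype.card_fin]
  have h := S.count S.mem hc' hx
  rw [hμ, ncard_partners C, ncard_lambda C hx] at h
  obtain ⟨n, rfl⟩ : ∃ n, m = n + 5 := ⟨m - 5, by omega⟩
  rw [show n + 5 - 1 = n + 4 by omega, show n + 5 - 2 = n + 3 by omega] at h
  have hq : ((((aside D d).ncard) * (n + 4).choose 2 + (n + 5).choose 2 * ((n + 3).choose 2 + 1) : ℕ) : ℚ) =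
      (((n + 5).choose 2 * (n + 5).choose 2 : ℕ) : ℚ) := by rw [h]
  push_cast [Nat.cast_choose_two] at hq
  have hpos : ((n : ℚ) + 4) * (n + 3) ≠ 0 := by positivity
  have hfin : ((aside D d).ncard : ℚ) = 2 * (n + 5) := by
    refine mul_right_cancel₀ hpos ?_
    linear_combination 2 * hq
  exact_mod_cast hfin

omit S C [Finite G] in
/-- The conjugation law for one order of a pair gives it for the other. -/
theorem conj_swap_order {K : Type*} [Group K] {E : Set K} {σ : G → K} {x y : G}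
    (hD : IsThreeTranspositionGroup D) (hE : IsThreeTranspositionSet E) (hσ : Set.BijOn σ D E)
    (hx : x ∈ D) (hy : y ∈ D) (h : σ (x * y * x) = σ x * σ y * σ x) :
    σ (y * x * y) = σ y * σ x * σ y := by
  by_cases hc : Commute x y
  · rw [ThreeTrans.conj_self_of_commute hD.1 hx hc] at h
    rw [ThreeTrans.conj_self_of_commute hD.1 hy hc.symm,
      ThreeTrans.conj_self_of_commute hE (hσ.mapsTo hy)]
    have h' : σ y * σ x = σ x * σ y := by
      conv_lhs => rw [h]
      rw [mul_mul_self hE (hσ.mapsTo hx)]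
    exact h'
  · rw [← braid hD.1 hx hy hc, h]
    by_cases hc' : Commute (σ x) (σ y)
    · exfalso
      rw [ThreeTrans.conj_self_of_commute hE (hσ.mapsTo hx) hc'] at h
      have h2 := hσ.injOn (ThreeTrans.conj_mem hD.1 hD.2.1 hx hy) hy h
      refine hc ?_
      show x * y = y * x
      conv_rhs => rw [← h2]
      rw [mul_mul_self hD.1 hx]
    · exact braid hE (hσ.mapsTo hx) (hσ.mapsTo hy) hc'

end Cfsg.Agent.FischerThm.SymCase
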