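import Cfsg.Agent.ThreeTrans.Fischer

/-!
# Transpositions of a symmetric group as 3-transpositions
-/

set_option autoImplicit false

open Cfsg
open Cfsg.Agent.ThreeTrans (dperp)

namespace Cfsg.Agent.FischerThm.SymCase

variable {α : Type*} [DecidableEq α] {i j k l p q r : α}

/-- The transpositions. -/
def swaps (α : Type*) [DecidableEq α] : Set (Equiv.Perm α) := {σ | σ.IsSwap}

theorem swap_mem (h : i ≠ j) : Equiv.swap i j ∈ swaps α := ⟨i, j, h, rfl⟩

theorem swap_eq_swap (hij : i ≠ j) (h : Equiv.swap i j = Equiv.swap k l) :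
    (i = k ∧ j = l) ∨ (i = l ∧ j = k) := by
  have h1 : Equiv.swap k l i = j := by rw [← h, Equiv.swap_apply_left]
  by_cases hik : i = k
  · subst hik
    rw [Equiv.swap_apply_left] at h1
    exact Or.inl ⟨rfl, h1.symm⟩
  by_cases hil : i = l
  · subst hil
    rw [Equiv.swap_apply_right] at h1
    exact Or.inr ⟨rfl, h1.symm⟩
  rw [Equiv.swap_apply_of_ne_of_ne hik hil] at h1
  exact absurd h1 hij

theorem conj_swap (g : Equiv.Perm α) (i j : α) :
    g * Equiv.swap i j * g⁻¹ = Equiv.swap (g i) (g j) := by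
  rw [Equiv.mul_swap_eq_swap_mul, mul_inv_cancel_right]

theorem swap_conj_swap (i j k l : α) : Equiv.swap i j * Equiv.swap k l * Equiv.swap i j =
    Equiv.swap (Equiv.swap i j k) (Equiv.swap i j l) := by
  have h := conj_swap (Equiv.swap i j) k l
  rwa [Equiv.swap_inv] at h

theorem commute_iff_map (g : Equiv.Perm α) (hij : i ≠ j) :
    Commute g (Equiv.swap i j) ↔ (g i = i ∧ g j = j) ∨ (g i = j ∧ g j = i) := by
  rw [show Commute g (Equiv.swap i j) ↔ g * Equiv.swap i j * g⁻¹ = Equiv.swap i j from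
    ⟨fun h => by rw [h.eq, mul_inv_cancel_right], fun h => mul_inv_eq_iff_eq_mul.1 h⟩, conj_swap]
  constructor
  · exact swap_eq_swap (g.injective.ne hij)
  · rintro (⟨h1, h2⟩ | ⟨h1, h2⟩) <;> rw [h1, h2]
    exact Equiv.swap_comm _ _

/-- Two different transpositions commute when their pairs are disjoint. -/
theorem commute_swap_iff (hij : i ≠ j) (hkl : k ≠ l)
    (hne : Equiv.swap i j ≠ Equiv.swap k l) :
    Commute (Equiv.swap i j) (Equiv.swap k l) ↔ i ≠ k ∧ i ≠ l ∧ j ≠ k ∧ j ≠ l := by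
  rw [commute_iff_map _ hkl]
  constructor
  · rintro (⟨hk, hl⟩ | ⟨hk, hl⟩)
    · have hfix : ∀ x, Equiv.swap i j x = x → i ≠ x ∧ j ≠ x := by
        intro x hx
        constructor
        · rintro rfl; rw [Equiv.swap_apply_left] at hx; exact hij hx.symm
        · rintro rfl; rw [Equiv.swap_apply_right] at hx; exact hij hx
      exact ⟨(hfix k hk).1, (hfix l hl).1, (hfix k hk).2, (hfix l hl).2⟩
    · exfalso
      refine hne ?_
      rcases eq_or_ne k i with rfl | hki
      · rw [Equiv.swap_apply_left] at hk; rw [hk]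
      rcases eq_or_ne k j with rfl | hkj
      · rw [Equiv.swap_apply_right] at hk; rw [hk, Equiv.swap_comm]
      rw [Equiv.swap_apply_of_ne_of_ne hki hkj] at hk
      exact absurd hk hkl
  · rintro ⟨h1, h2, h3, h4⟩
    exact Or.inl ⟨Equiv.swap_apply_of_ne_of_ne (Ne.symm h1) (Ne.symm h3),
      Equiv.swap_apply_of_ne_of_ne (Ne.symm h2) (Ne.symm h4)⟩

theorem mem_dperp_swap_iff (hij : i ≠ j) (hkl : k ≠ l) :
    Equiv.swap k l ∈ dperp (swaps α) (Equiv.swap i j) ↔ i ≠ k ∧ i ≠ l ∧ j ≠ k ∧ j ≠ l := by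
  constructor
  · rintro ⟨-, hne, hc⟩
    exact (commute_swap_iff hij hkl (Ne.symm hne)).1 hc
  · intro h
    have hne : Equiv.swap i j ≠ Equiv.swap k l := fun he => by
      rcases swap_eq_swap hij he with h' | h'
      · exact h.1 h'.1
      · exact h.2.1 h'.1
    exact ⟨swap_mem hkl, Ne.symm hne, (commute_swap_iff hij hkl hne).2 h⟩

/-- The transpositions form a set of 3-transpositions generating the symmetric group. -/
theorem group_swaps [Fintype α] : IsThreeTranspositionGroup (swaps α) := by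
  have hord : ∀ σ ∈ swaps α, orderOf σ = 2 := by
    rintro σ ⟨i, j, hij, rfl⟩
    exact orderOf_eq_prime (by rw [sq, Equiv.swap_mul_self])
      (fun h => hij (Equiv.swap_eq_one_iff.1 h))
  refine ⟨⟨hord, ?_⟩, ?_, Equiv.Perm.closure_isSwap⟩
  · rintro σ ⟨i, j, hij, rfl⟩ τ ⟨k, l, hkl, rfl⟩
    by_cases hne : Equiv.swap i j = Equiv.swap k l
    · left; rw [hne, Equiv.swap_mul_self, one_pow]
    by_cases hc : Commute (Equiv.swap i j) (Equiv.swap k l)
    · left; rw [hc.mul_pow, sq, sq, Equiv.swap_mul_self, Equiv.swap_mul_self, one_mul]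
    right
    rw [commute_swap_iff hij hkl hne] at hc
    have key : ∀ {p q r : α}, p ≠ q → p ≠ r → q ≠ r →
        (Equiv.swap p q * Equiv.swap p r) ^ 3 = 1 := fun hpq hpr hqr => by
      rw [← (Equiv.Perm.isThreeCycle_swap_mul_swap_same hpq hpr hqr).orderOf]
      exact pow_orderOf_eq_one _
    by_cases h1 : i = k
    · subst h1
      exact key hij hkl fun h => hne (by rw [h])
    by_cases h2 : i = l
    · subst h2
      rw [Equiv.swap_comm k i]
      exact key hij (Ne.symm hkl) fun h => hne (by rw [h, Equiv.swap_comm k i])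
    by_cases h3 : j = k
    · subst h3
      rw [Equiv.swap_comm i j]
      exact key (Ne.symm hij) hkl h2
    by_cases h4 : j = l
    · subst h4
      rw [Equiv.swap_comm i j, Equiv.swap_comm k j]
      exact key (Ne.symm hij) (Ne.symm hkl) h1
    exact absurd ⟨h1, h2, h3, h4⟩ hc
  · rintro g σ ⟨i, j, hij, rfl⟩
    exact ⟨g i, g j, g.injective.ne hij, conj_swap g i j⟩

theorem center_eq_bot [Fintype α] (h : 3 ≤ Fintype.card α) :
    Subgroup.center (Equiv.Perm α) = ⊥ := by
  rw [eq_bot_iff]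
  intro g hg
  rw [Subgroup.mem_bot]
  refine Equiv.ext fun i => ?_
  by_contra hne
  rw [Equiv.Perm.one_apply] at hne
  obtain ⟨k, -, hk⟩ : ∃ k ∈ (Finset.univ : Finset α), k ∉ ({i, g i} : Finset α) := by
    refine Finset.exists_mem_notMem_of_card_lt_card ((Finset.card_le_two).trans_lt ?_)
    rw [Finset.card_univ]; omega
  simp only [Finset.mem_insert, Finset.mem_singleton, not_or] at hk
  have hc : Commute g (Equiv.swap i k) := (Subgroup.mem_center_iff.1 hg _).symm
  rcases (commute_iff_map g (Ne.symm hk.1)).1 hc with h' | h'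
  · exact hne h'.1
  · exact hk.2 h'.1.symm

end Cfsg.Agent.FischerThm.SymCase
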